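import Cfsg.Agent.H1.Cores
import Cfsg.Agent.H10.Cores
import Cfsg.Prelude.Def_Transfer

set_option autoImplicit false

namespace Cfsg.Agent.CS

open Subgroup

namespace SV

variable {G : Type*} [Group G] [Finite G]

theorem rel_dvd (C P : Subgroup G) [P.Normal] : C.relIndex P ∣ C.index := by
  obtain ⟨t, ht⟩ := relIndex_dvd_index_of_normal P C
  have h1 := relIndex_mul_index (inf_le_right : C ⊓ P ≤ P)
  have h2 := relIndex_mul_index (inf_le_left : C ⊓ P ≤ C)
  rw [inf_relIndex_right] at h1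
  rw [inf_relIndex_left] at h2
  have h0 : P.relIndex C ≠ 0 := index_ne_zero_of_finite
  refine ⟨t, mul_left_cancel₀ h0 ?_⟩
  rw [h2, ← h1, ht]; ring

theorem comm {p q k : ℕ} [hp : Fact p.Prime] (hq : q.Prime) (hlt : p < q) (P : Subgroup G) [hn : P.Normal]
    (hP : IsPGroup p P) {x : G} (hx : x ^ q ^ k = 1)
    (h : ¬ p ^ 2 ∣ (centralizer ({x} : Set G)).index) {u : G} (hu : u ∈ P) : u * x = x * u := by
  haveI : Fact q.Prime := ⟨hq⟩
  let O : Set G := {y | ∃ v ∈ P, y = v * x * v⁻¹}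
  have hO : O.ncard ≤ p := by
    letI : MulAction P G := MulAction.compHom G ((MulAut.conj (G := G)).comp P.subtype)
    have e1 : MulAction.orbit P x = O := by
      ext y
      exact ⟨fun ⟨v, hv⟩ => ⟨v, v.2, hv.symm⟩, fun ⟨v, hv, e⟩ => ⟨⟨v, hv⟩, e.symm⟩⟩
    have e2 : MulAction.stabilizer P x = (centralizer ({x} : Set G)).subgroupOf P := by
      ext v
      rw [mem_subgroupOf, mem_centralizer_singleton_iff, MulAction.mem_stabilizer_iff]
      exact mul_inv_eq_iff_eq_mul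
    have e3 := MulAction.index_stabilizer P x
    rw [e1, e2] at e3
    obtain ⟨j, hj⟩ := hP.index ((centralizer ({x} : Set G)).subgroupOf P)
    have d := rel_dvd (centralizer ({x} : Set G)) P
    rw [relIndex, hj] at d
    have : j ≤ 1 := by
      by_contra hj2
      exact h ((pow_dvd_pow p (by omega)).trans d)
    rw [← e3, hj]
    calc p ^ j ≤ p ^ 1 := Nat.pow_le_pow_right hp.out.pos this
      _ = p := pow_one p
  have c : Commute x (u * x * u⁻¹) := by
    letI : MulAction (zpowers x) G :=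
      MulAction.compHom G ((MulAut.conj (G := G)).comp (zpowers x).subtype)
    have hz : IsPGroup q (zpowers x) := by
      rintro ⟨_, i, rfl⟩
      refine ⟨k, Subtype.ext ?_⟩
      show (x ^ i) ^ q ^ k = 1
      rw [← zpow_natCast, ← zpow_mul, mul_comm, zpow_mul, zpow_natCast, hx, one_zpow]
    obtain ⟨n, hn'⟩ := hz.card_orbit (u * x * u⁻¹)
    have sub : MulAction.orbit (zpowers x) (u * x * u⁻¹) ⊆ O := by
      rintro _ ⟨⟨_, i, rfl⟩, rfl⟩
      refine ⟨x ^ i * u * (x ^ i)⁻¹, hn.conj_mem u hu _, ?_⟩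
      show x ^ i * (u * x * u⁻¹) * (x ^ i)⁻¹ = _
      group
    have le : q ^ n ≤ p := by
      rw [← hn', Nat.card_coe_set_eq]
      exact (Set.ncard_le_ncard sub).trans hO
    have n0 : n = 0 := by
      by_contra n0
      have : q ^ 1 ≤ q ^ n := Nat.pow_le_pow_right hq.pos (by omega)
      rw [pow_one] at this
      omega
    rw [n0, pow_zero, Nat.card_eq_one_iff_unique] at hn'
    have := hn'.1.elim ⟨_, MulAction.mem_orbit_self (M := zpowers x) (u * x * u⁻¹)⟩
      ⟨_, MulAction.mem_orbit (u * x * u⁻¹) (⟨x, mem_zpowers x⟩ : zpowers x)⟩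
    have e : u * x * u⁻¹ = x * (u * x * u⁻¹) * x⁻¹ := congrArg Subtype.val this
    exact (eq_mul_inv_iff_mul_eq.1 e).symm
  have m : u * x * u⁻¹ * x⁻¹ ∈ P := by
    have := P.mul_mem hu (hn.conj_mem _ (P.inv_mem hu) x)
    simpa [mul_assoc] using this
  obtain ⟨j, hj⟩ := hP ⟨_, m⟩
  have h1 : (u * x * u⁻¹ * x⁻¹) ^ p ^ j = 1 := congrArg Subtype.val hj
  have h2 : (u * x * u⁻¹ * x⁻¹) ^ q ^ k = 1 := by
    rw [c.symm.inv_right.mul_pow, conj_pow, inv_pow, hx]; simp
  have cop : Nat.Coprime (p ^ j) (q ^ k) :=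
    Nat.Coprime.pow _ _ ((Nat.coprime_primes hp.out hq).2 hlt.ne)
  have := (pow_gcd_eq_one (a := u * x * u⁻¹ * x⁻¹) (m := p ^ j) (n := q ^ k)).2 ⟨h1, h2⟩
  rw [cop.gcd_eq_one, pow_one, mul_inv_eq_one, mul_inv_eq_iff_eq_mul] at this
  exact this

theorem lift {H : Type*} [Group H] (f : G →* H) (hf : Function.Surjective f) {q : ℕ} (hq : q.Prime)
    {y : H} (hy : orderOf y = q) : ∃ (x : G) (k : ℕ), orderOf x = q ^ k ∧ f x ≠ 1 := by
  obtain ⟨x, rfl⟩ := hf y
  obtain ⟨k, m, hm, e⟩ := Nat.exists_eq_pow_mul_and_not_dvd (orderOf_pos x).ne' q hq.one_lt.ne'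
  have m0 : m ≠ 0 := fun h => hm (h ▸ dvd_zero q)
  refine ⟨x ^ m, k, ?_, ?_⟩
  · rw [orderOf_pow' _ m0, e, Nat.gcd_eq_right (dvd_mul_left m _), Nat.mul_div_cancel _ (Nat.pos_of_ne_zero m0)]
  · rw [map_pow, Ne, ← orderOf_dvd_iff_pow_eq_one, hy]
    exact hm

end SV

theorem solvp {G : Type*} [Group G] [Finite G] (hs : Group.IsSolvable G) (p : ℕ) [hp : Fact p.Prime]
    (hmin : ∀ r : ℕ, r.Prime → r ∣ Nat.card G → p ≤ r)
    (h : ∀ x : G, (∃ (r : ℕ) (k : ℕ), r.Prime ∧ r ≠ p ∧ orderOf x = r ^ k) →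
      ¬ p ^ 2 ∣ (Subgroup.centralizer ({x} : Set G)).index) :
    Cfsg.HasNormalPComplement p G := by
  let U := pPrimeCore p G
  haveI hU : U.Normal := inferInstance
  let f := QuotientGroup.mk' U
  have hf : Function.Surjective f := QuotientGroup.mk'_surjective U
  have hQ : IsPGroup p (G ⧸ U) := by
    refine IsPGroup.iff_card.2 ⟨_, Nat.eq_prime_pow_of_unique_prime_dvd Nat.card_pos.ne' ?_⟩
    intro d hd hdv
    by_contra hdp
    haveI : Fact d.Prime := ⟨hd⟩
    obtain ⟨y, hy⟩ := exists_prime_orderOf_dvd_card' d hdv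
    obtain ⟨x, k, hx, hx1⟩ := SV.lift f hf hd hy
    have lt : p < d := lt_of_le_of_ne (hmin d hd (hdv.trans (card_dvd_of_surjective f hf)))
      (Ne.symm hdp)
    have dv : (centralizer ({f x} : Set (G ⧸ U))).index ∣ (centralizer ({x} : Set G)).index := by
      rw [← index_comap_of_surjective _ hf]
      refine index_dvd_of_le fun g hg => ?_
      rw [mem_comap, mem_centralizer_singleton_iff, ← map_mul, ← map_mul,
        mem_centralizer_singleton_iff.1 hg]
    have hx' : f x ^ d ^ k = 1 := by rw [← map_pow, ← hx, pow_orderOf_eq_one, map_one]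
    have m : f x ∈ pCore p (G ⧸ U) :=
      H1.centralizer_pCore_le_of_isSolvable inferInstance (H1.pPrimeCore_quotient_pPrimeCore p)
        (fun u hu => SV.comm hd lt _ (H10.pCore_isPGroup' p _) hx'
          (fun e => h x ⟨d, k, hd, hdp, hx⟩ (e.trans dv)) hu)
    obtain ⟨j, hj⟩ := H10.pCore_isPGroup' p _ ⟨_, m⟩
    have h1 : f x ^ p ^ j = 1 := congrArg Subtype.val hj
    have cop : Nat.Coprime (p ^ j) (d ^ k) :=
      Nat.Coprime.pow _ _ ((Nat.coprime_primes hp.out hd).2 lt.ne)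
    have := (pow_gcd_eq_one (a := f x) (m := p ^ j) (n := d ^ k)).2 ⟨h1, hx'⟩
    rw [cop.gcd_eq_one, pow_one] at this
    exact hx1 this
  obtain ⟨n, hn⟩ := hQ.exists_card_eq
  let P : Sylow p G := default
  have cop : (Nat.card U).Coprime p := H10.pPrimeCore_coprime p G
  obtain ⟨a, ha⟩ := P.isPGroup'.exists_card_eq
  refine ⟨P, U, hU, isComplement'_of_coprime ?_ (by rw [ha]; exact cop.pow_right a)⟩
  have e := U.card_mul_index
  rw [index_eq_card, hn] at e
  rw [← e, P.card_eq_multiplicity, ← e, Nat.factorization_mul Nat.card_pos.ne' (pow_pos hp.out.pos n).ne',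
    Finsupp.add_apply, Nat.factorization_eq_zero_of_not_dvd
      ((Nat.Prime.coprime_iff_not_dvd hp.out).1 cop.symm), hp.out.factorization_pow]
  simp

end Cfsg.Agent.CS
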