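import Mathlib
import Cfsg.Agent.H12.Lin

/-! A unipotent element of `PSL(2, q)`, `q` odd, has class size divisible by 4. -/

set_option autoImplicit false

namespace Cfsg.Agent.CS

open Matrix
open scoped MatrixGroups

theorem unip {F : Type} [Field F] [Fintype F] (ho : Odd (Fintype.card F))
    (h3 : 3 < Fintype.card F) :
    ∃ y : Matrix.ProjectiveSpecialLinearGroup (Fin 2) F,
      (∃ r k : ℕ, r.Prime ∧ r ≠ 2 ∧ orderOf y = r ^ k) ∧
        4 ∣ (Subgroup.centralizer {y}).index := by
  classical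
  obtain ⟨p, hpc⟩ := CharP.exists F
  obtain ⟨n, hp, hn⟩ := FiniteField.card F p
  have hp2 : p ≠ 2 := by
    rintro rfl
    rw [hn] at ho
    exact (Nat.not_even_iff_odd.2 ho) (Nat.even_pow.2 ⟨even_two, n.pos.ne'⟩)
  have h2 : (2 : F) ≠ 0 := by
    intro h
    have h' : ((2 : ℕ) : F) = 0 := by simpa using h
    exact hp2 ((Nat.prime_dvd_prime_iff_eq hp Nat.prime_two).1 ((CharP.cast_eq_zero_iff F p 2).1 h'))
  let T : SL(2, F) := ⟨!![1, 1; 0, 1], by simp [Matrix.det_fin_two]⟩
  have hT : ∀ m : ℕ, ((T ^ m : SL(2, F)) : Matrix (Fin 2) (Fin 2) F) = !![1, (m : F); 0, 1] := by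
    intro m
    induction m with
    | zero => simp [Matrix.one_fin_two]
    | succ m ih =>
      rw [pow_succ, Matrix.SpecialLinearGroup.coe_mul, ih]
      simp [T, add_comm]
  have hTp : T ^ p = 1 := by
    apply Subtype.ext
    rw [hT p]
    simp [Matrix.one_fin_two]
  let y : Matrix.ProjectiveSpecialLinearGroup (Fin 2) F := QuotientGroup.mk T
  have hyp : y ^ p = 1 := by
    show (QuotientGroup.mk T : SL(2, F) ⧸ Subgroup.center SL(2, F)) ^ p = 1
    rw [← QuotientGroup.mk_pow, hTp, QuotientGroup.mk_one]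
  refine ⟨y, ?_, ?_⟩
  · have hd : orderOf y ∣ p ^ 1 := by simpa using orderOf_dvd_of_pow_eq_one hyp
    obtain ⟨k, -, hk⟩ := (Nat.dvd_prime_pow hp).1 hd
    exact ⟨p, k, hp, hp2, hk⟩
  have hodd : ¬ 2 ∣ Nat.card (Subgroup.centralizer {y}) := by
    intro hd
    obtain ⟨g, hg⟩ := exists_prime_orderOf_dvd_card' 2 hd
    obtain ⟨g, hgC⟩ := g
    rw [Subgroup.orderOf_mk] at hg
    obtain ⟨A, rfl⟩ := QuotientGroup.mk_surjective g
    have hc := (Subgroup.mem_centralizer_singleton_iff).1 hgC
    have hc' : (QuotientGroup.mk (A * T) : SL(2, F) ⧸ Subgroup.center SL(2, F)) =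
        QuotientGroup.mk (T * A) := by
      rw [QuotientGroup.mk_mul, QuotientGroup.mk_mul]; exact hc
    obtain ⟨r, -, hr⟩ := Matrix.SpecialLinearGroup.mem_center_iff.1 (QuotientGroup.eq.1 hc')
    have hm : ((T * A : SL(2, F)) : Matrix (Fin 2) (Fin 2) F) =
        ((A * T : SL(2, F)) : Matrix (Fin 2) (Fin 2) F) * Matrix.scalar (Fin 2) r := by
      rw [hr, ← Matrix.SpecialLinearGroup.coe_mul, mul_inv_cancel_left]
    have hsq : (QuotientGroup.mk (A * A) : SL(2, F) ⧸ Subgroup.center SL(2, F)) = 1 := by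
      rw [QuotientGroup.mk_mul, ← sq]
      have := pow_orderOf_eq_one (QuotientGroup.mk A : SL(2, F) ⧸ Subgroup.center SL(2, F))
      rwa [hg] at this
    obtain ⟨s, -, hs⟩ := Matrix.SpecialLinearGroup.mem_center_iff.1 ((QuotientGroup.eq_one_iff _).1 hsq)
    have hdet := A.2
    rw [Matrix.det_fin_two] at hdet
    have hT1 : (T : Matrix (Fin 2) (Fin 2) F) = !![1, 1; 0, 1] := rfl
    rw [Matrix.SpecialLinearGroup.coe_mul, Matrix.SpecialLinearGroup.coe_mul, hT1] at hm
    have e00 := congrFun (congrFun hm 0) 0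
    have e01 := congrFun (congrFun hm 0) 1
    have e10 := congrFun (congrFun hm 1) 0
    have f01 := congrFun (congrFun hs 0) 1
    simp [Matrix.mul_apply, Fin.sum_univ_two, Matrix.diagonal_apply] at e00 e01 e10 f01
    have hc0 : A.1 1 0 = 0 := by
      by_contra hne
      have hr1 : r = 1 := by
        apply mul_left_cancel₀ hne
        linear_combination -e10
      apply hne
      rw [hr1] at e00
      linear_combination e00
    have ha : A.1 0 0 ≠ 0 := by
      intro h0
      rw [h0, hc0] at hdet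
      simp at hdet
    have hr1 : r = 1 := by
      apply mul_left_cancel₀ ha
      rw [hc0] at e00
      linear_combination -e00
    have had : A.1 1 1 = A.1 0 0 := by
      rw [hr1] at e01
      linear_combination e01
    have hb : A.1 0 1 = 0 := by
      have : (2 * A.1 0 0) * A.1 0 1 = 0 := by
        rw [had] at f01
        linear_combination -f01
      exact (mul_eq_zero.1 this).resolve_left (mul_ne_zero h2 ha)
    have hA : A ∈ Subgroup.center SL(2, F) := by
      refine Matrix.SpecialLinearGroup.mem_center_iff.2 ⟨A.1 0 0, ?_, ?_⟩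
      · rw [Fintype.card_fin]
        rw [had, hb] at hdet
        linear_combination hdet
      · ext i j
        fin_cases i <;> fin_cases j <;> simp [hb, hc0, had]
    have h1 : (QuotientGroup.mk A : SL(2, F) ⧸ Subgroup.center SL(2, F)) = 1 :=
      (QuotientGroup.eq_one_iff _).2 hA
    rw [h1, orderOf_one] at hg
    exact absurd hg (by decide)
  have hcard := H12.card_PSL2 (F := F) rfl
  obtain ⟨m, hm⟩ := ho
  have hg2 : Nat.gcd 2 (Fintype.card F - 1) = 2 := by
    apply Nat.gcd_eq_left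
    exact ⟨m, by omega⟩
  rw [hg2] at hcard
  have h8 : 8 ∣ Fintype.card F ^ 2 - 1 := by
    have e : Fintype.card F ^ 2 - 1 = 4 * (m * (m + 1)) := by
      rw [hm]; apply Nat.sub_eq_of_eq_add; ring
    rw [e]
    obtain ⟨j, hj⟩ := Nat.even_mul_succ_self m
    exact ⟨j, by rw [hj]; ring⟩
  have h4 : 4 ∣ Nat.card (Matrix.ProjectiveSpecialLinearGroup (Fin 2) F) := by
    have : 2 * 4 ∣ 2 * Nat.card (Matrix.ProjectiveSpecialLinearGroup (Fin 2) F) := by
      rw [hcard]; exact Dvd.dvd.mul_left h8 _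
    exact Nat.dvd_of_mul_dvd_mul_left two_pos this
  rw [← Subgroup.card_mul_index (Subgroup.centralizer {y})] at h4
  have hco : Nat.Coprime 4 (Nat.card (Subgroup.centralizer {y})) :=
    Nat.Coprime.pow_left 2 ((Nat.Prime.coprime_iff_not_dvd Nat.prime_two).2 hodd)
  exact hco.dvd_of_dvd_mul_left h4

end Cfsg.Agent.CS
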